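import Mathlib
import Groth.Prelude.Def_Found

/-!
# Kaplansky: summands of direct sums of countably generated modules
-/

universe u

open DirectSum Submodule
open scoped Classical

set_option linter.style.haveILetI false

namespace Groth.Agent.KaplanskyLib

variable {R : Type u} [CommRing R] {M : Type u} [AddCommGroup M] [Module R M] {ι : Type u}
  (N : ι → Submodule R M)

/-- The span of the components in `J`. -/
def part (J : Set ι) : Submodule R M := ⨆ i ∈ J, N i

theorem part_mono {J J' : Set ι} (h : J ⊆ J') : part N J ≤ part N J' :=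
  biSup_mono fun _ hi => h hi

theorem part_union (J J' : Set ι) : part N (J ∪ J') = part N J ⊔ part N J' := iSup_union

theorem exists_proj (hN : IsInternal N) (J : Set ι) :
    ∃ π : M →ₗ[R] M, (∀ x, π x ∈ part N J) ∧ ∀ x ∈ part N J, π x = x := by
  classical
  let f : (⨁ i, N i) →ₗ[R] M := DirectSum.toModule R ι M fun i => if i ∈ J then (N i).subtype else 0
  let E : (⨁ i, N i) ≃ₗ[R] M := LinearEquiv.ofBijective (DirectSum.coeLinearMap N) hN
  refine ⟨f ∘ₗ E.symm.toLinearMap, fun x => ?_, fun x hx => ?_⟩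
  · simp only [LinearMap.coe_comp, LinearEquiv.coe_coe, Function.comp_apply]
    induction E.symm x using DirectSum.induction_on with
    | zero => rw [map_zero]; exact zero_mem _
    | of i a =>
      rw [← DirectSum.lof_eq_of R, DirectSum.toModule_lof]
      by_cases h : i ∈ J
      · rw [if_pos h]; exact mem_iSup_of_mem i (mem_iSup_of_mem h a.2)
      · rw [if_neg h]; exact zero_mem _
    | add a b ha hb => rw [map_add]; exact add_mem ha hb
  · have hle : part N J ≤ LinearMap.ker (f ∘ₗ E.symm.toLinearMap - LinearMap.id) := by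
      refine iSup₂_le fun i hi a ha => ?_
      rw [LinearMap.mem_ker, LinearMap.sub_apply, sub_eq_zero]
      have h1 : E.symm a = DirectSum.lof R ι (fun i => N i) i ⟨a, ha⟩ := by
        rw [LinearEquiv.symm_apply_eq]
        exact (DirectSum.coeLinearMap_of N i ⟨a, ha⟩).symm
      simp [f, h1, hi]
    simpa [sub_eq_zero] using hle hx

theorem exists_countable_finset (hN : IsInternal N) (m : M) : ∃ s : Finset ι, m ∈ part N (s : Set ι) := by
  obtain ⟨s, hs⟩ := exists_finset_of_mem_iSup N (show m ∈ iSup N by rw [hN.submodule_iSup_eq_top]; trivial)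
  exact ⟨s, hs⟩

/-- Countable generation of a submodule, spelled out. -/
def CG (L : Submodule R M) : Prop := ∃ s : Set M, s.Countable ∧ span R s = L

theorem cg_map {L : Submodule R M} (hL : CG L) (f : M →ₗ[R] M) : CG (L.map f) := by
  obtain ⟨s, hs, rfl⟩ := hL
  exact ⟨f '' s, hs.image f, (map_span f s).symm⟩

theorem cg_part {C : Set ι} (hC : C.Countable) (hc : ∀ i, CG (N i)) : CG (part N C) := by
  choose s hs hspan using hc
  refine ⟨⋃ i ∈ C, s i, hC.biUnion fun i _ => hs i, ?_⟩
  rw [span_iUnion₂]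
  simp only [hspan]
  rfl

theorem exists_closure (hN : IsInternal N) (hc : ∀ i, CG (N i)) (e : M →ₗ[R] M) (i₀ : ι) :
    ∃ C : Set ι, C.Countable ∧ i₀ ∈ C ∧ ∀ x ∈ part N C, e x ∈ part N C := by
  classical
  choose s hs hspan using hc
  choose F hF using fun m => exists_countable_finset N hN (e m)
  let step : Set ι → Set ι := fun C => C ∪ ⋃ i ∈ C, ⋃ m ∈ s i, (F m : Set ι)
  let C : ℕ → Set ι := Nat.rec {i₀} fun _ D => step D
  have hC : ∀ n, (C n).Countable := by
    intro n
    induction n with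
    | zero => exact Set.countable_singleton _
    | succ n ih => exact ih.union (ih.biUnion fun i _ => (hs i).biUnion fun m _ => (F m).countable_toSet)
  refine ⟨⋃ n, C n, Set.countable_iUnion hC, Set.mem_iUnion.mpr ⟨0, rfl⟩, ?_⟩
  have hle : part N (⋃ n, C n) ≤ (part N (⋃ n, C n)).comap e := by
    refine iSup₂_le fun i hi => ?_
    obtain ⟨n, hn⟩ := Set.mem_iUnion.mp hi
    rw [← hspan i, span_le]
    intro m hm
    refine part_mono N ?_ (hF m)
    intro j hj
    exact Set.mem_iUnion.mpr ⟨n + 1, Or.inr (Set.mem_iUnion₂.mpr ⟨i, hn, Set.mem_iUnion₂.mpr ⟨m, hm, hj⟩⟩)⟩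
  exact fun x hx => hle hx

/-- The states of the construction. -/
def Good (e : M →ₗ[R] M) (p : Set ι × Set (Submodule R M)) : Prop :=
  (∀ x ∈ part N p.1, e x ∈ part N p.1) ∧ (∀ L ∈ p.2, CG L) ∧ sSupIndep p.2 ∧
    sSup p.2 = (part N p.1).map e

theorem exists_decomposition (hN : IsInternal N) (hc : ∀ i, CG (N i)) (e : M →ₗ[R] M)
    (he : ∀ x, e (e x) = e x) :
    ∃ 𝓛 : Set (Submodule R M), (∀ L ∈ 𝓛, CG L) ∧ sSupIndep 𝓛 ∧ sSup 𝓛 = LinearMap.range e := by
  classical
  obtain ⟨p, hp, hmax⟩ : ∃ p, Maximal (· ∈ {p | Good N e p}) p := by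
    refine zorn_le₀ _ fun c hcs hchain => ?_
    refine ⟨(⋃ p ∈ c, p.1, ⋃ p ∈ c, p.2), ⟨?_, ?_, ?_, ?_⟩, fun p hp => ⟨?_, ?_⟩⟩
    · have hle : part N (⋃ p ∈ c, p.1) ≤ (part N (⋃ p ∈ c, p.1)).comap e := by
        refine iSup₂_le fun i hi x hx => ?_
        obtain ⟨q, hq, hiq⟩ := Set.mem_iUnion₂.mp hi
        exact part_mono N (Set.subset_biUnion_of_mem (u := fun p : Set ι × Set (Submodule R M) => p.1) hq)
          ((hcs hq).1 x (mem_iSup_of_mem i (mem_iSup_of_mem hiq hx)))
      exact fun x hx => hle hx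
    · intro L hL
      obtain ⟨q, hq, hLq⟩ := Set.mem_iUnion₂.mp hL
      exact (hcs hq).2.1 L hLq
    · show sSupIndep (⋃ p ∈ c, p.2)
      rw [Set.biUnion_eq_iUnion]
      exact sSupIndep_iUnion_of_directed
        (fun a b => (hchain.directed a b).imp fun z hz => ⟨hz.1.2, hz.2.2⟩)
        fun q => (hcs q.2).2.2.1
    · simp only [part, iSup_iUnion, sSup_iUnion, Submodule.map_iSup]
      refine iSup_congr fun q => iSup_congr fun hq => ?_
      rw [(hcs hq).2.2.2]
      simp only [part, Submodule.map_iSup]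
    · exact Set.subset_biUnion_of_mem (u := fun p : Set ι × Set (Submodule R M) => p.1) hp
    · exact Set.subset_biUnion_of_mem (u := fun p : Set ι × Set (Submodule R M) => p.2) hp
  obtain ⟨J, 𝓛⟩ := p
  obtain ⟨hst, hcg, hind, hsup⟩ := hp
  suffices hJ : J = Set.univ by
    refine ⟨𝓛, hcg, hind, hsup.trans ?_⟩
    show (⨆ i ∈ J, N i).map e = _
    rw [hJ, iSup_univ, hN.submodule_iSup_eq_top, Submodule.map_top]
  by_contra hne
  obtain ⟨i₀, hi₀⟩ := (Set.ne_univ_iff_exists_notMem J).mp hne
  obtain ⟨C, hC, hiC, hCst⟩ := exists_closure N hN hc e i₀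
  obtain ⟨π, hπmem, hπid⟩ := exists_proj N hN J
  let r : M →ₗ[R] M := e ∘ₗ π
  have hrmem : ∀ x, r x ∈ (part N J).map e := fun x => ⟨π x, hπmem x, rfl⟩
  have hrid : ∀ x ∈ (part N J).map e, r x = x := by
    rintro _ ⟨y, hy, rfl⟩
    show e (π (e y)) = e y
    rw [hπid _ (hst y hy), he]
  let L : Submodule R M := ((part N C).map e).map (LinearMap.id - r)
  have hrL : ∀ z ∈ L, r z = 0 := by
    rintro _ ⟨y, -, rfl⟩
    show r (y - r y) = 0
    rw [map_sub, hrid _ (hrmem y), sub_self]
  have hsupL : sSup (insert L 𝓛) = (part N (J ∪ C)).map e := by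
    rw [sSup_insert, hsup, part_union, Submodule.map_sup]
    refine le_antisymm (sup_le ?_ le_sup_left) (sup_le le_sup_right ?_)
    · rintro _ ⟨y, hy, rfl⟩
      exact sub_mem (mem_sup_right hy) (mem_sup_left (hrmem y))
    · intro y hy
      rw [← sub_add_cancel y (r y)]
      exact add_mem (mem_sup_left ⟨y, hy, rfl⟩) (mem_sup_right (hrmem y))
  have hdisj : Disjoint L (sSup 𝓛) := by
    rw [hsup, disjoint_def]
    intro z hz hz'
    rw [← hrid z hz', hrL z hz]
  have hLcg : CG L := cg_map (cg_map (cg_part N hC hc) e) _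
  have hgood : Good N e (J ∪ C, insert L 𝓛) := by
    refine ⟨fun x hx => ?_, ?_, ?_, hsupL⟩
    · rw [part_union, mem_sup] at hx ⊢
      obtain ⟨a, ha, b, hb, rfl⟩ := hx
      exact ⟨e a, hst a ha, e b, hCst b hb, (map_add e a b).symm⟩
    · rintro K (rfl | hK)
      · exact hLcg
      · exact hcg K hK
    · intro a ha
      by_cases hLmem : L ∈ 𝓛
      · rw [Set.insert_eq_of_mem hLmem] at ha ⊢
        exact hind ha
      rcases ha with rfl | ha
      · rw [Set.insert_sdiff_of_mem _ (Set.mem_singleton _)]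
        exact hdisj.mono_right (sSup_le_sSup Set.sdiff_subset)
      · have hne : L ≠ a := fun h => hLmem (h ▸ ha)
        rw [Set.insert_sdiff_of_notMem _ (by simpa using hne), sSup_insert]
        have h2 : Disjoint L (a ⊔ sSup (𝓛 \ {a})) :=
          hdisj.mono_right (sup_le (le_sSup ha) (sSup_le_sSup Set.sdiff_subset))
        rw [sup_comm]
        exact (hind ha).disjoint_sup_right_of_disjoint_sup_left h2.symm
  exact hi₀ ((hmax hgood ⟨Set.subset_union_left, Set.subset_insert _ _⟩).1 (Set.mem_union_right J hiC))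

/-- Kaplansky's theorem on direct summands. -/
theorem exists_isInternal (hN : IsInternal N) (hc : ∀ i, CAlg.IsCountablyGenerated R (N i))
    (P Q : Submodule R M) (hPQ : IsCompl P Q) :
    ∃ (κ : Type u) (L : κ → Submodule R P), IsInternal L ∧ ∀ k, CAlg.IsCountablyGenerated R (L k) := by
  classical
  have hc' : ∀ i, CG (N i) := fun i => by
    obtain ⟨s, hs, hspan⟩ := hc i
    refine ⟨(N i).subtype '' s, hs.image _, ?_⟩
    rw [← map_span, hspan, Submodule.map_top, range_subtype]
  let e : M →ₗ[R] M := P.subtype ∘ₗ P.projectionOnto Q hPQ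
  have heid : ∀ x ∈ P, e x = x := fun x hx => by
    simp only [e, LinearMap.coe_comp, Function.comp_apply]
    rw [projectionOnto_apply_left hPQ ⟨x, hx⟩]
    rfl
  obtain ⟨𝓛, hcg, hind, hsup⟩ := exists_decomposition N hN hc' e fun x =>
    heid _ (P.projectionOnto Q hPQ x).2
  have hrange : LinearMap.range e = P :=
    le_antisymm (by rintro _ ⟨x, rfl⟩; exact (P.projectionOnto Q hPQ x).2) fun x hx => ⟨x, heid x hx⟩
  have hle : ∀ L ∈ 𝓛, L ≤ P := fun L hL => hrange ▸ hsup ▸ le_sSup hL
  let L : 𝓛 → Submodule R P := fun k => (k : Submodule R M).comap P.subtype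
  have hmapL : ∀ k : 𝓛, (L k).map P.subtype = (k : Submodule R M) := fun k => by
    rw [map_comap_subtype, inf_eq_right]
    exact hle _ k.2
  refine ⟨𝓛, L, ?_, fun k => ?_⟩
  · refine @isInternal_submodule_of_iSupIndep_of_iSup_eq_top _ _ _ (fun a b => Classical.propDecidable (a = b)) _ _ _ L (fun k => ?_) ?_
    · rw [disjoint_iff, ← (map_injective_of_injective P.injective_subtype).eq_iff, Submodule.map_inf _ P.injective_subtype,
        hmapL, Submodule.map_bot, ← disjoint_iff]
      simp only [Submodule.map_iSup, hmapL]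
      exact (sSupIndep_iff 𝓛).mp hind k
    · rw [← (map_injective_of_injective P.injective_subtype).eq_iff, Submodule.map_iSup, Submodule.map_top, range_subtype]
      simp only [show ∀ i : 𝓛, Submodule.map P.subtype (comap P.subtype ↑i) = (i : Submodule R M) from hmapL]
      rw [← sSup_eq_iSup', hsup, hrange]
  · obtain ⟨s, hs, hspan⟩ := hcg _ k.2
    have hsL : ∀ x ∈ s, x ∈ P := fun x hx => hle _ k.2 (hspan ▸ subset_span hx)
    refine ⟨(fun x : L k => ((x : P) : M)) ⁻¹' s, hs.preimage (fun a b h => Subtype.ext (Subtype.ext h)), ?_⟩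
    refine map_injective_of_injective (f := P.subtype ∘ₗ (L k).subtype)
      (fun a b h => Subtype.ext (Subtype.ext h)) ?_
    rw [map_span, Submodule.map_top, LinearMap.range_comp, range_subtype, hmapL, ← hspan]
    congr 1
    refine Set.Subset.antisymm (Set.image_preimage_subset _ _) fun x hx => ?_
    exact ⟨⟨⟨x, hsL x hx⟩, show x ∈ (k : Submodule R M) from hspan ▸ subset_span hx⟩, hx, rfl⟩

end Groth.Agent.KaplanskyLib
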