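import Mathlib
import Groth.Agent.KaplanskyLib.Summand

/-!
# Kaplansky: projective modules over local rings are free
-/

universe u

open Submodule

set_option linter.style.haveILetI false

namespace Groth.Agent.KaplanskyLib

variable {R : Type u} [CommRing R] [IsLocalRing R]

/-- Every element of a projective module over a local ring lies in a free direct summand. -/
theorem exists_free_summand_mem (P : Type u) [AddCommGroup P] [Module R P] [Module.Projective R P]
    (x : P) : ∃ (B : Set P) (Q : Submodule R P),
      LinearIndepOn R id B ∧ IsCompl (span R B) Q ∧ x ∈ span R B := by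
  classical
  obtain ⟨i, hi⟩ := Module.projective_def'.mp ‹Module.Projective R P›
  let s : (P →₀ R) →ₗ[R] P := Finsupp.linearCombination R id
  have hsi : ∀ p, s (i p) = p := fun p => LinearMap.congr_fun hi p
  have hex : ∃ n, ∃ b : Module.Basis P R (P →₀ R), (b.repr (i x)).support.card = n :=
    ⟨_, Finsupp.basisSingleOne, rfl⟩
  obtain ⟨b, hb⟩ := Nat.find_spec hex
  set J := (b.repr (i x)).support with hJ
  let a : P → R := fun k => b.repr (i x) k
  have hzero : ∀ d : P → R, ∑ l ∈ J, d l * a l = 0 → ∀ j ∈ J, ¬ IsUnit (d j) := by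
    intro d hd j hj hu
    obtain ⟨v, hv⟩ := hu
    let c : P → R := fun l => if l = j then 0 else -(↑v⁻¹ * d l)
    let f : (P →₀ R) →ₗ[R] R := b.constr R c
    have hfj : f (b j) = 0 := by simp [f, c]
    have hfx : f (i x) = a j := by
      have h1 : f (i x) = ∑ l ∈ J, a l * c l := by
        simp only [f, Module.Basis.constr_apply, Finsupp.sum, hJ, smul_eq_mul, a]
      rw [h1, ← Finset.add_sum_erase J _ hj]
      rw [← Finset.add_sum_erase J _ hj] at hd
      have h2 : ∑ l ∈ J.erase j, a l * c l = -(↑v⁻¹ * ∑ l ∈ J.erase j, d l * a l) := by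
        rw [Finset.mul_sum, ← Finset.sum_neg_distrib]
        refine Finset.sum_congr rfl fun l hl => ?_
        simp only [c, if_neg (Finset.ne_of_mem_erase hl)]
        ring
      rw [h2, eq_neg_of_add_eq_zero_right hd, ← hv]
      simp only [c, if_pos rfl, mul_zero, zero_add, mul_neg, neg_neg, ← mul_assoc, Units.inv_mul, one_mul]
    let T : (P →₀ R) ≃ₗ[R] (P →₀ R) :=
      LinearEquiv.ofLinearMap (LinearMap.id + f.smulRight (b j)) (LinearMap.id - f.smulRight (b j))
        (LinearMap.ext fun z => by simp [hfj]) (LinearMap.ext fun z => by simp [hfj])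
    have hlt : ((b.map T).repr (i x)).support.card < J.card := by
      refine lt_of_le_of_lt (Finset.card_le_card ?_) (Finset.card_erase_lt_of_mem hj)
      intro l hl
      have h3 : (b.map T).repr (i x) = b.repr (i x) - a j • Finsupp.single j 1 := by
        show b.repr (T.symm (i x)) = _
        simp [T, hfx]
      rw [h3, Finsupp.mem_support_iff] at hl
      rw [Finset.mem_erase]
      by_cases hlj : l = j
      · subst hlj; simp [a] at hl
      · refine ⟨hlj, ?_⟩
        simpa [hJ, Finsupp.single_apply, Ne.symm hlj] using hl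
    exact Nat.find_min hex (hb ▸ hlt) ⟨b.map T, rfl⟩
  let C : Matrix J J R := Matrix.of fun k j => b.repr (i (s (b k))) j
  have hax : ∑ k ∈ J, a k • b k = i x := by
    conv_rhs => rw [← b.linearCombination_repr (i x)]
    rw [Finsupp.linearCombination_apply, Finsupp.sum]
  have hrow : ∀ j : P, ∑ k ∈ J, a k * b.repr (i (s (b k))) j = a j := by
    intro j
    have := congrArg (fun z => b.repr (i (s z)) j) hax
    simpa [map_sum, map_smul, hsi, a] using this
  have hnu : ∀ j k : J, ¬ IsUnit ((1 : Matrix J J R) k j - C k j) := by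
    intro j k
    have := hzero (fun l => (if l = (j : P) then 1 else 0) - b.repr (i (s (b l))) j) ?_ k k.2
    · rcases eq_or_ne k j with rfl | hkj
      · simpa [C] using this
      · simpa [C, hkj, Subtype.coe_injective.ne hkj] using this
    · simp only [sub_mul, Finset.sum_sub_distrib, ite_mul, one_mul, zero_mul, Finset.sum_ite_eq',
        j.2, if_true]
      rw [sub_eq_zero]
      simp only [mul_comm _ (a _)]
      exact (hrow j).symm
  have hdet : IsUnit C.det := by
    rw [← IsLocalRing.residue_ne_zero_iff_isUnit, RingHom.map_det]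
    have h1 : (IsLocalRing.residue R).mapMatrix C = 1 := by
      ext k j
      have h := (IsLocalRing.residue_eq_zero_iff _).mpr ((IsLocalRing.mem_maximalIdeal _).mpr (hnu j k))
      rw [map_sub, sub_eq_zero] at h
      simp only [RingHom.mapMatrix_apply, Matrix.map_apply, ← h]
      by_cases hkj : k = j <;> simp [hkj, Matrix.one_apply]
    rw [h1, Matrix.det_one]
    exact one_ne_zero
  let y : J → P := fun k => s (b k)
  let φ : (J → R) →ₗ[R] P := Fintype.linearCombination R y
  let ψ : P →ₗ[R] (J → R) := LinearMap.pi fun j => Finsupp.lapply (j : P) ∘ₗ b.repr.toLinearMap ∘ₗ i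
  have hcomp : ψ ∘ₗ φ = Matrix.toLin' C.transpose := by
    ext c j
    simp [ψ, φ, y, C, Fintype.linearCombination_apply, Matrix.mulVec, dotProduct, map_sum, mul_comm]
  have hbij : Function.Bijective (Matrix.toLin' C.transpose) := by
    have hu : IsUnit C.transpose := (Matrix.isUnit_iff_isUnit_det _).mpr (by rw [Matrix.det_transpose]; exact hdet)
    exact (Module.End.isUnit_iff _).mp (hu.map Matrix.toLinAlgEquiv')
  let E : (J → R) ≃ₗ[R] (J → R) := LinearEquiv.ofBijective _ hbij
  let ρ : P →ₗ[R] (J → R) := E.symm.toLinearMap ∘ₗ ψ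
  have hρ : ∀ c, ρ (φ c) = c := fun c => by
    show E.symm (ψ (φ c)) = c
    rw [← LinearMap.comp_apply ψ φ, hcomp]
    exact E.symm_apply_apply c
  have hrange : span R (Set.range y) = LinearMap.range φ := (Fintype.range_linearCombination R y).symm
  refine ⟨Set.range y, LinearMap.ker ρ, ?_, ?_, ?_⟩
  · refine LinearIndependent.linearIndepOn_id ?_
    rw [Fintype.linearIndependent_iff]
    intro g hg k
    have : φ g = φ 0 := by rw [map_zero, ← hg]; rfl
    have := congrArg ρ this
    rw [hρ, hρ] at this
    exact congrFun this k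
  · rw [hrange]
    refine ⟨disjoint_def.mpr ?_, codisjoint_iff.mpr (eq_top_iff'.mpr fun z => ?_)⟩
    · rintro _ ⟨c, rfl⟩ hc
      rw [LinearMap.mem_ker, hρ] at hc
      rw [hc, map_zero]
    · rw [mem_sup]
      exact ⟨φ (ρ z), ⟨_, rfl⟩, z - φ (ρ z), by rw [LinearMap.mem_ker, map_sub, hρ, sub_self],
        add_sub_cancel _ _⟩
  · have : x = ∑ k ∈ J, a k • s (b k) := by
      conv_lhs => rw [← hsi x, ← hax, map_sum]
      simp [map_smul]
    rw [this]
    exact sum_mem fun k hk => smul_mem _ _ (subset_span ⟨⟨k, hk⟩, rfl⟩)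

/-- A countably generated projective module over a local ring is free. -/
theorem free_of_countablyGenerated (P : Type u) [AddCommGroup P] [Module R P] [Module.Projective R P]
    (hP : CAlg.IsCountablyGenerated R P) : Module.Free R P := by
  obtain ⟨S, hS, hspan⟩ := hP
  obtain ⟨x, hx⟩ := (hS.insert 0).exists_eq_range (Set.insert_nonempty _ _)
  let St := {B : Set P // LinearIndepOn R id B ∧ ∃ Q, IsCompl (span R B) Q}
  have step : ∀ (B : St) (z : P), ∃ B' : St, B.1 ⊆ B'.1 ∧ z ∈ span R B'.1 := by
    rintro ⟨B, hB, Q, hQ⟩ z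
    have : Module.Projective R Q := Module.Projective.of_split (R := R) (M := P) Q.subtype
      (Q.projectionOnto _ hQ.symm) (LinearMap.ext fun q => projectionOnto_apply_left hQ.symm q)
    obtain ⟨B', Q', hB', hQ', hzB'⟩ := exists_free_summand_mem (R := R) Q (Q.projectionOnto _ hQ.symm z)
    have hspan' : span R (Q.subtype '' B') = (span R B').map Q.subtype := (map_span _ _).symm
    have hle : span R (Q.subtype '' B') ≤ Q := hspan' ▸ map_subtype_le _ _
    have hsup : (span R B').map Q.subtype ⊔ Q'.map Q.subtype = Q := by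
      rw [← Submodule.map_sup, hQ'.sup_eq_top, Submodule.map_top, range_subtype]
    refine ⟨⟨B ∪ Q.subtype '' B', ?_, Q'.map Q.subtype, ?_⟩, Set.subset_union_left, ?_⟩
    · exact hB.id_union ((hB'.image (f := Q.subtype) (by simp))) (hQ.disjoint.mono_right hle)
    · rw [span_union, hspan']
      refine ⟨?_, ?_⟩
      · refine Disjoint.disjoint_sup_left_of_disjoint_sup_right ?_ ?_
        · exact (disjoint_map Q.injective_subtype hQ'.disjoint)
        · rw [hsup]; exact hQ.disjoint
      · rw [codisjoint_iff, sup_assoc, hsup, hQ.sup_eq_top]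
    · rw [span_union, hspan', mem_sup]
      refine ⟨(span R B).projectionOnto Q hQ z, SetLike.coe_mem _, Q.projectionOnto _ hQ.symm z,
        mem_map_of_mem hzB', ?_⟩
      exact projection_add_projection_eq_self hQ z
  choose next hsub hmem using step
  let B : ℕ → St := Nat.rec ⟨∅, linearIndepOn_empty R id, ⊤, by rw [span_empty]; exact isCompl_bot_top⟩
    fun n D => next D (x n)
  have hmono : Monotone fun n => (B n).1 := monotone_nat_of_le_succ fun n => hsub _ _
  have hli : LinearIndepOn R id (⋃ n, (B n).1) :=
    linearIndepOn_iUnion_of_directed (hmono.directed_le) fun n => (B n).2.1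
  refine Module.Free.of_basis (Module.Basis.mk hli ?_)
  simp only [id, Subtype.range_coe]
  rw [← hspan, span_le]
  intro z hz
  have : z ∈ Set.range x := hx ▸ Set.mem_insert_of_mem _ hz
  obtain ⟨n, rfl⟩ := this
  exact span_mono (Set.subset_iUnion (fun n => (B n).1) (n + 1)) (hmem (B n) (x n))

/-- A projective module over a local ring is free. -/
theorem free_of_projective (P : Type u) [AddCommGroup P] [Module R P] [Module.Projective R P] :
    Module.Free R P := by
  classical
  obtain ⟨i, hi⟩ := Module.projective_def'.mp ‹Module.Projective R P›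
  let s : (P →₀ R) →ₗ[R] P := Finsupp.linearCombination R id
  have hsi : ∀ p, s (i p) = p := fun p => LinearMap.congr_fun hi p
  let N : P → Submodule R (P →₀ R) := fun p => LinearMap.range (Finsupp.lsingle p)
  have hN : DirectSum.IsInternal N :=
    DirectSum.isInternal_submodule_of_iSupIndep_of_iSup_eq_top
      (iSupIndep_range_lsingle P R R) (Finsupp.iSup_lsingle_range)
  have hc : ∀ p, CAlg.IsCountablyGenerated R (N p) := fun p => by
    refine ⟨{⟨Finsupp.single p 1, 1, rfl⟩}, Set.countable_singleton _, ?_⟩
    refine eq_top_iff'.mpr ?_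
    rintro ⟨_, c, rfl⟩
    exact mem_span_singleton.mpr ⟨c, Subtype.ext (by simp [Finsupp.smul_single])⟩
  have hcompl : IsCompl (LinearMap.range i) (LinearMap.ker s) :=
    ⟨disjoint_def.mpr (by rintro _ ⟨p, rfl⟩ hp; rw [LinearMap.mem_ker, hsi] at hp; rw [hp, map_zero]),
      codisjoint_iff.mpr (eq_top_iff'.mpr fun z => mem_sup.mpr
        ⟨i (s z), ⟨_, rfl⟩, z - i (s z), by rw [LinearMap.mem_ker, map_sub, hsi, sub_self],
          add_sub_cancel _ _⟩)⟩
  obtain ⟨κ, L, hL, hLc⟩ := exists_isInternal N hN hc _ _ hcompl
  let e : P ≃ₗ[R] LinearMap.range i := LinearEquiv.ofInjective i (fun a b h => by rw [← hsi a, h, hsi])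
  have : Module.Projective R (LinearMap.range i) := Module.Projective.of_equiv e
  let E : (DirectSum κ fun k => L k) ≃ₗ[R] LinearMap.range i :=
    LinearEquiv.ofBijective (DirectSum.coeLinearMap L) hL
  have : Module.Projective R (DirectSum κ fun k => L k) := Module.Projective.of_equiv E.symm
  have : ∀ k, Module.Free R (L k) := fun k => by
    have : Module.Projective R (L k) := Module.Projective.directSum_iff.mp ‹_› k
    letI : AddCommGroup (L k) := Module.addCommMonoidToAddCommGroup R
    exact free_of_countablyGenerated _ (hLc k)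
  exact Module.Free.of_equiv (E.trans e.symm)

end Groth.Agent.KaplanskyLib
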